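import Cfsg.Agent.Lib.Schur.FiTwentyTwo.Data2
import Cfsg.Agent.Lib.Schur.TailsDense

/-!
Kernel checks for the 2-part of the multiplier of the group Fi22.
-/

set_option autoImplicit false
set_option maxRecDepth 100000
set_option maxHeartbeats 0
set_option Elab.async false

namespace CfsgLib.Schur.Sporadic.FiTwentyTwo

open CfsgLib.Sporadic.OutCert

theorem cert2_eqs : Tails.Dense.eqsOK cert2 dense2 = true := by decide +kernel

theorem cert2_comb : Tails.Dense.combOK cert2 dense2 = true := by decide +kernel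

theorem cert2_shape : cert2.shapeOK = true ∧ cert2.p = 2 ∧ cert2.r = 17 ∧ cert2.r - cert2.a = 13 ∧
    dense2.b = 2 ∧ ¬ 2 ^ (17 + 1) ∣ 64561751654400 ∧ ¬ 2 ∣ 492567075 ∧ 64561751654400 ∣ dense2.q * 492567075 := by decide +kernel

end CfsgLib.Schur.Sporadic.FiTwentyTwo
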