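import Cfsg.Agent.Lib.Schur.TailsDensePerm

/-!
Checks made in parts.
-/

set_option autoImplicit false

namespace CfsgLib.Schur.Sporadic.FiTwentyTwo

/-- A test holds on a list if it holds on each part. -/
theorem all_of_parts {α : Type*} {P : α → Bool} {l : List α} (C K : ℕ) (hl : l.length ≤ K * C)
    (h : ∀ k < K, ((l.drop (k * C)).take C).all P = true) : l.all P = true := by
  refine List.all_eq_true.2 fun x hx => ?_
  obtain ⟨i, hi, rfl⟩ := List.mem_iff_getElem.1 hx
  have hC : 0 < C := by
    rcases Nat.eq_zero_or_pos C with rfl | hC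
    · simp at hl; subst hl; simp at hi
    · exact hC
  refine List.all_eq_true.1 (h (i / C) ((Nat.div_lt_iff_lt_mul hC).2 (lt_of_lt_of_le hi hl))) _ ?_
  refine List.mem_iff_getElem?.2 ⟨i % C, ?_⟩
  rw [List.getElem?_take_of_lt (Nat.mod_lt _ hC), List.getElem?_drop, Nat.div_add_mod',
    List.getElem?_eq_getElem hi]

theorem relK_of_parts {w N : ℕ} {kk : List ℕ} {D : Tails.Cert} (C K : ℕ) (hl : D.rules.length ≤ K * C)
    (h : ∀ k < K, ((D.rules.drop (k * C)).take C).all
      (fun R => Tails.prodK w N kk R.1 == Tails.prodK w N kk R.2) = true) : Tails.relK w N kk D = true :=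
  all_of_parts C K hl h

end CfsgLib.Schur.Sporadic.FiTwentyTwo
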