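import Cfsg.Agent.Lib.Schur.FiTwentyTwo.Data3
import Cfsg.Agent.Lib.Schur.TailsDense

/-!
Kernel checks for the 3-part of the multiplier of the group Fi22.
-/

set_option autoImplicit false
set_option maxRecDepth 100000
set_option maxHeartbeats 0
set_option Elab.async false

namespace CfsgLib.Schur.Sporadic.FiTwentyTwo

open CfsgLib.Sporadic.OutCert

theorem cert3_eqs : Tails.Dense.eqsOK cert3 dense3 = true := by decide +kernel

theorem cert3_comb : Tails.Dense.combOK cert3 dense3 = true := by decide +kernel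

theorem cert3_shape : cert3.shapeOK = true ∧ cert3.p = 3 ∧ cert3.r = 9 ∧ cert3.r - cert3.a = 6 ∧
    dense3.b = 3 ∧ ¬ 3 ^ (9 + 1) ∣ 64561751654400 ∧ ¬ 3 ∣ 3280076800 ∧ 64561751654400 ∣ dense3.q * 3280076800 := by decide +kernel

end CfsgLib.Schur.Sporadic.FiTwentyTwo
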