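import Cfsg.Agent.Lib.Schur.FiTwentyTwo.Data3
import Cfsg.Agent.Lib.Schur.FiTwentyTwo.Chunks

/-!
Kernel checks for the 3-part of the multiplier of the group Fi22.
-/

set_option autoImplicit false
set_option maxRecDepth 100000
set_option maxHeartbeats 0
set_option Elab.async false

namespace CfsgLib.Schur.Sporadic.FiTwentyTwo

open CfsgLib.Sporadic.OutCert

theorem slp3_part0 : Tails.slpPartK 12 3510 9 slpTab3 slpW3 0 9 = true := by decide +kernel

theorem slp3_part1 : Tails.slpPartK 12 3510 9 slpTab3 slpW3 9 9 = true := by decide +kernel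

theorem slp3_part2 : Tails.slpPartK 12 3510 9 slpTab3 slpW3 18 9 = true := by decide +kernel

theorem slp3_len : slpTab3.length = 9 + slpW3.length ∧ slpW3.length = 27 := by decide +kernel

theorem slp3_ok : Tails.slpK 12 3510 9 slpTab3 slpW3 = true :=
  Tails.slpK_of_parts (C := 9) (K := 3) slp3_len.1 (slp3_len.2.trans_le (by norm_num)) fun k hk => match k, hk with
  | 0, _ => slp3_part0
  | 1, _ => slp3_part1
  | 2, _ => slp3_part2
  | k + 3, h => absurd h (Nat.not_lt.2 (Nat.le_add_left 3 k))

end CfsgLib.Schur.Sporadic.FiTwentyTwo
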