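import Cfsg.Agent.Lib.Schur.FiTwentyTwo.Data5
import Cfsg.Agent.Lib.Schur.TailsDense

/-!
Kernel checks for the 5-part of the multiplier of the group Fi22.
-/

set_option autoImplicit false
set_option maxRecDepth 100000
set_option maxHeartbeats 0
set_option Elab.async false

namespace CfsgLib.Schur.Sporadic.FiTwentyTwo

open CfsgLib.Sporadic.OutCert

theorem cert5_eqs : Tails.Dense.eqsOK cert5 dense5 = true := by decide +kernel

theorem cert5_comb : Tails.Dense.combOK cert5 dense5 = true := by decide +kernel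

theorem cert5_shape : cert5.shapeOK = true ∧ cert5.p = 5 ∧ cert5.r = 2 ∧ cert5.r - cert5.a = 0 ∧
    dense5.b = 1 ∧ ¬ 5 ^ (2 + 1) ∣ 64561751654400 ∧ ¬ 5 ∣ 2582470066176 ∧ 64561751654400 ∣ dense5.q * 2582470066176 := by decide +kernel

end CfsgLib.Schur.Sporadic.FiTwentyTwo
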