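import Cfsg.Agent.Lib.Schur.FiTwentyTwo.Data5

/-!
Kernel checks for the 5-part of the multiplier of the group Fi22.
-/

set_option autoImplicit false
set_option maxRecDepth 100000
set_option maxHeartbeats 0
set_option Elab.async false

namespace CfsgLib.Schur.Sporadic.FiTwentyTwo

open CfsgLib.Sporadic.OutCert

theorem pick5_ok : Tails.pickK 12 3510 slpTab5 ids5 kk5 = true ∧
    Tails.pickK 12 3510 slpTab5 gids5 gk5 = true := by decide +kernel

theorem chain5_ok : Tails.chainK 12 3510 kk5 lev5 levW5 0 cert5.r (5 ^ 2) = true := by decide +kernel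

theorem chain5in_ok : Tails.chainK 12 3510 kk5 lev5In levW5In cert5.a cert5.r (5 ^ 0) = true := by decide +kernel

theorem fus5_ok : Tails.fusK 12 3510 kk5 gk5 cert5 = true := by decide +kernel

theorem ord_ok : Tails.pickK 12 3510 slpTab5 ordIds ordK = true ∧
    ((List.range 3).all fun i => testK 12 3510 [ordK.getD i 0] ([7, 11, 13].getD i 0) &&
      !(ordK.getD i 0 == oneK 12 3510) && ordK.getD i 0 == pkF 12 (lk 12 (ordK.getD i 0)) 3510 0) = true ∧
    ordK.length = 3 := by decide +kernel

end CfsgLib.Schur.Sporadic.FiTwentyTwo
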