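import Cfsg.Agent.Lib.Schur.FiTwentyTwo.Data5
import Cfsg.Agent.Lib.Schur.FiTwentyTwo.Chunks

/-!
Kernel checks for the 5-part of the multiplier of the group Fi22.
-/

set_option autoImplicit false
set_option maxRecDepth 100000
set_option maxHeartbeats 0
set_option Elab.async false

namespace CfsgLib.Schur.Sporadic.FiTwentyTwo

open CfsgLib.Sporadic.OutCert

theorem slp5_part0 : Tails.slpPartK 12 3510 9 slpTab5 slpW5 0 9 = true := by decide +kernel

theorem slp5_part1 : Tails.slpPartK 12 3510 9 slpTab5 slpW5 9 9 = true := by decide +kernel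

theorem slp5_part2 : Tails.slpPartK 12 3510 9 slpTab5 slpW5 18 9 = true := by decide +kernel

theorem slp5_len : slpTab5.length = 9 + slpW5.length ∧ slpW5.length = 22 := by decide +kernel

theorem slp5_ok : Tails.slpK 12 3510 9 slpTab5 slpW5 = true :=
  Tails.slpK_of_parts (C := 9) (K := 3) slp5_len.1 (slp5_len.2.trans_le (by norm_num)) fun k hk => match k, hk with
  | 0, _ => slp5_part0
  | 1, _ => slp5_part1
  | 2, _ => slp5_part2
  | k + 3, h => absurd h (Nat.not_lt.2 (Nat.le_add_left 3 k))

end CfsgLib.Schur.Sporadic.FiTwentyTwo
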