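import Cfsg.Agent.Lib.Schur.FiTwentyTwo.Check2Slp
import Cfsg.Agent.Lib.Schur.FiTwentyTwo.Check2Rels
import Cfsg.Agent.Lib.Schur.FiTwentyTwo.Check2Group
import Cfsg.Agent.Lib.Schur.FiTwentyTwo.Check2Cert
import Cfsg.Agent.Lib.Schur.FiTwentyTwo.Check3Slp
import Cfsg.Agent.Lib.Schur.FiTwentyTwo.Check3Rels
import Cfsg.Agent.Lib.Schur.FiTwentyTwo.Check3Group
import Cfsg.Agent.Lib.Schur.FiTwentyTwo.Check3Cert
import Cfsg.Agent.Lib.Schur.FiTwentyTwo.Check5Slp
import Cfsg.Agent.Lib.Schur.FiTwentyTwo.Check5Rels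
import Cfsg.Agent.Lib.Schur.FiTwentyTwo.Check5Group
import Cfsg.Agent.Lib.Schur.FiTwentyTwo.Check5Cert
import Cfsg.Agent.Lib.Schur.Basic
import Cfsg.Agent.Lib.Sporadic.FiPresented

/-!
At most six: the bound on the multiplier of Fi22, from its action on 3510 points.
-/

set_option autoImplicit false
set_option maxRecDepth 100000
set_option maxHeartbeats 0

namespace CfsgLib.Schur.Sporadic.FiTwentyTwo

open CfsgLib.Sporadic.OutCert
open CfsgLib.Sporadic.CosetCert

theorem base_eq : slpTab3.take 9 = slpTab5.take 9 ∧ slpTab2.take 9 = slpTab5.take 9 ∧ slpTab5.length ≥ 9 := by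
  decide +kernel

theorem base_img : ((List.range 9).all fun i => (List.range 3510).all fun u =>
    Nat.beq (lk 12 (slpTab5.getD i 0) u) (FiData.table.img i u)) = true := by decide +kernel

theorem table_shape : FiData.table.N = 3510 ∧ FiData.table.nl = 9 := ⟨rfl, rfl⟩

attribute [local irreducible] lk pkF allF compK slpTab2 slpTab3 slpTab5 kk2 kk3 kk5 gk2 gk3 gk5 ordK
  lev2 lev2In lev3 lev3In lev5 lev5In cert2 cert3 cert5 dense2 dense3 dense5

/-- The representation on 3510 points. -/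
noncomputable def psi : Cfsg.Spor.Fi22 →* Equiv.Perm (Fin 3510) := FiP.hom

theorem psi_injective : Function.Injective psi := FiP.card_eq.2

theorem hw : 3510 ≤ 2 ^ 12 := by norm_num

theorem base_rep {tab : List ℕ} (h : tab.take 9 = slpTab5.take 9) :
    ∀ i < 9, ∃ q, Rep 12 3510 (tab.getD i (oneK 12 3510)) (psi q) := by
  intro i hi
  refine ⟨_, fun u => (?_ : lk 12 (tab.getD i (oneK 12 3510)) u = ((FiP.hom (FiP.coding.gen i)) u : ℕ))⟩
  have hl : i < slpTab5.length := lt_of_lt_of_le hi base_eq.2.2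
  have e : tab.getD i (oneK 12 3510) = (tab.take 9).getD i (oneK 12 3510) := by
    simp [List.getD_eq_getElem?_getD, hi]
  have e2 : (slpTab5.take 9).getD i (oneK 12 3510) = slpTab5.getD i (oneK 12 3510) := by
    simp [List.getD_eq_getElem?_getD, hi]
  rw [e, h, e2, List.getD_eq_getElem _ _ hl, ← List.getD_eq_getElem _ 0 hl,
    FiP.hom_acts.img_eq i hi u]
  exact Nat.eq_of_beq_eq_true (List.all_eq_true.1 (List.all_eq_true.1 base_img i (List.mem_range.2 hi)) u
    (List.mem_range.2 u.2))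

variable (Γ : Type) [Group Γ] [Finite Γ] (σ : Γ →* Cfsg.Spor.Fi22) (hσ : Cfsg.IsStemExtension σ)
include hσ

theorem factorization_two : (Nat.card σ.ker).factorization 2 ≤ (2 : ℕ).factorization 2 := by
  haveI := FiP.finite
  haveI := Fact.mk Nat.prime_two
  obtain ⟨hs, hDp, hr, ha, hb, hQ, hm, hqc⟩ := cert2_shape
  have hs2 := Tails.exists_slp psi hw (base_rep base_eq.2.1) slp2_ok
  choose y hy using Tails.exists_pick psi hw hs2 pick2_ok.1
  choose g hg using Tails.exists_pick psi hw hs2 pick2_ok.2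
  have := Tails.factorization_card_ker_le_dense cert2 dense2 cert2_eqs cert2_comb hm hs hDp y
    (Tails.rel_of_check psi psi_injective hw hy rels2_ok) g (Tails.fus_of_check psi psi_injective hw hy hg fus2_ok)
    ((congrArg (2 ^ ·) hr).trans_le (Tails.card_tailGen_ge_of_chain psi hw hy psi_injective chain2_ok))
    ((congrArg (2 ^ ·) ha).trans_le (Tails.card_tailGen_ge_of_chain psi hw hy psi_injective chain2in_ok))
    (by rw [hr, FiP.card_eq.1]; exact hQ) (by rw [FiP.card_eq.1]; exact hqc) Γ σ hσ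
  rwa [hb] at this

theorem factorization_three : (Nat.card σ.ker).factorization 3 ≤ (3 : ℕ).factorization 3 := by
  haveI := FiP.finite
  haveI := Fact.mk Nat.prime_three
  obtain ⟨hs, hDp, hr, ha, hb, hQ, hm, hqc⟩ := cert3_shape
  have hs3 := Tails.exists_slp psi hw (base_rep base_eq.1) slp3_ok
  choose y hy using Tails.exists_pick psi hw hs3 pick3_ok.1
  choose g hg using Tails.exists_pick psi hw hs3 pick3_ok.2
  have := Tails.factorization_card_ker_le_dense cert3 dense3 cert3_eqs cert3_comb hm hs hDp y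
    (Tails.rel_of_check psi psi_injective hw hy rels3_ok) g (Tails.fus_of_check psi psi_injective hw hy hg fus3_ok)
    ((congrArg (3 ^ ·) hr).trans_le (Tails.card_tailGen_ge_of_chain psi hw hy psi_injective chain3_ok))
    ((congrArg (3 ^ ·) ha).trans_le (Tails.card_tailGen_ge_of_chain psi hw hy psi_injective chain3in_ok))
    (by rw [hr, FiP.card_eq.1]; exact hQ) (by rw [FiP.card_eq.1]; exact hqc) Γ σ hσ
  rwa [hb] at this

theorem factorization_five : (Nat.card σ.ker).factorization 5 = 0 := by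
  haveI := FiP.finite
  haveI := Fact.mk (show Nat.Prime 5 by norm_num)
  obtain ⟨hs, hDp, hr, ha, hb, hQ, hm, hqc⟩ := cert5_shape
  have hs5 := Tails.exists_slp psi hw (base_rep rfl) slp5_ok
  choose y hy using Tails.exists_pick psi hw hs5 pick5_ok.1
  choose g hg using Tails.exists_pick psi hw hs5 pick5_ok.2
  have := Tails.factorization_card_ker_le_dense cert5 dense5 cert5_eqs cert5_comb hm hs hDp y
    (Tails.rel_of_check psi psi_injective hw hy rels5_ok) g (Tails.fus_of_check psi psi_injective hw hy hg fus5_ok)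
    ((congrArg (5 ^ ·) hr).trans_le (Tails.card_tailGen_ge_of_chain psi hw hy psi_injective chain5_ok))
    ((congrArg (5 ^ ·) ha).trans_le (Tails.card_tailGen_ge_of_chain psi hw hy psi_injective chain5in_ok))
    (by rw [hr, FiP.card_eq.1]; exact hQ) (by rw [FiP.card_eq.1]; exact hqc) Γ σ hσ
  simpa [hb] using this

theorem factorization_big {m : ℕ} (hmp : m.Prime) {j : ℕ} (hj : j < 3) (hm : [7, 11, 13].getD j 0 = m)
    (hm2 : ¬ m ^ 2 ∣ 64561751654400) : (Nat.card σ.ker).factorization m = 0 := by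
  haveI := FiP.finite
  haveI := Fact.mk hmp
  obtain ⟨h1, h2, h3⟩ := ord_ok
  have h := List.all_eq_true.1 h2 j (List.mem_range.2 hj)
  simp only [Bool.and_eq_true, Bool.not_eq_true', beq_eq_false_iff_ne, beq_iff_eq, hm] at h
  have hmem := Tails.exists_pick psi hw (Tails.exists_slp psi hw (base_rep rfl) slp5_ok) h1 j
  have hd : ordK.getD j (oneK 12 3510) = ordK.getD j 0 := by
    rw [List.getD_eq_getElem _ _ (h3 ▸ hj), List.getD_eq_getElem _ _ (h3 ▸ hj)]
  rw [hd] at hmem
  obtain ⟨q, hq⟩ := Tails.exists_orderOf psi hw psi_injective hmem h.1.1 h.1.2 h.2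
  exact Tails.factorization_card_ker_of_orderOf σ hσ q (k := 1) (by rw [hq, pow_one]) (by rwa [FiP.card_eq.1])

theorem card_ker_bound : Nat.card σ.ker ≤ 6 := by
  haveI := FiP.finite
  refine Tails.card_ker_le σ hσ (by norm_num) fun p hp hd => ?_
  rw [FiP.card_eq.1] at hd
  have h1 : p ∣ 2 ^ 17 * 3 ^ 9 * 5 ^ 2 * 7 * 11 * 13 := hd
  have q : ∀ r : ℕ, r.Prime → p ∣ r → p = r := fun r hr h => (Nat.prime_dvd_prime_iff_eq hp hr).1 h
  simp only [Nat.Prime.dvd_mul hp] at h1
  rcases h1 with ((((h1 | h1) | h1) | h1) | h1) | h1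
  · rw [q 2 Nat.prime_two (hp.dvd_of_dvd_pow h1)]
    refine (factorization_two Γ σ hσ).trans ((Nat.factorization_le_iff_dvd (by norm_num) (by norm_num)).2 ?_ 2)
    norm_num
  · rw [q 3 Nat.prime_three (hp.dvd_of_dvd_pow h1)]
    refine (factorization_three Γ σ hσ).trans ((Nat.factorization_le_iff_dvd (by norm_num) (by norm_num)).2 ?_ 3)
    norm_num
  · rw [q 5 (by norm_num) (hp.dvd_of_dvd_pow h1), factorization_five Γ σ hσ]; exact Nat.zero_le _
  · rw [q 7 (by norm_num) h1, factorization_big Γ σ hσ (m := 7) (j := 0) (by norm_num) (by norm_num) rfl (by norm_num)]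
    exact Nat.zero_le _
  · rw [q 11 (by norm_num) h1, factorization_big Γ σ hσ (m := 11) (j := 1) (by norm_num) (by norm_num) rfl (by norm_num)]
    exact Nat.zero_le _
  · rw [q 13 (by norm_num) h1, factorization_big Γ σ hσ (m := 13) (j := 2) (by norm_num) (by norm_num) rfl (by norm_num)]
    exact Nat.zero_le _

end CfsgLib.Schur.Sporadic.FiTwentyTwo
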