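import Cfsg.Agent.Lib.Schur.FiTwentyTwo.Data2
import Cfsg.Agent.Lib.Schur.FiTwentyTwo.Chunks

/-!
Kernel checks for the 2-part of the multiplier of the group Fi22.
-/

set_option autoImplicit false
set_option maxRecDepth 100000
set_option maxHeartbeats 0
set_option Elab.async false

namespace CfsgLib.Schur.Sporadic.FiTwentyTwo

open CfsgLib.Sporadic.OutCert

theorem slp2_part0 : Tails.slpPartK 12 3510 9 slpTab2 slpW2 0 9 = true := by decide +kernel

theorem slp2_part1 : Tails.slpPartK 12 3510 9 slpTab2 slpW2 9 9 = true := by decide +kernel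

theorem slp2_part2 : Tails.slpPartK 12 3510 9 slpTab2 slpW2 18 9 = true := by decide +kernel

theorem slp2_part3 : Tails.slpPartK 12 3510 9 slpTab2 slpW2 27 9 = true := by decide +kernel

theorem slp2_len : slpTab2.length = 9 + slpW2.length ∧ slpW2.length = 35 := by decide +kernel

theorem slp2_ok : Tails.slpK 12 3510 9 slpTab2 slpW2 = true :=
  Tails.slpK_of_parts (C := 9) (K := 4) slp2_len.1 (slp2_len.2.trans_le (by norm_num)) fun k hk => match k, hk with
  | 0, _ => slp2_part0
  | 1, _ => slp2_part1
  | 2, _ => slp2_part2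
  | 3, _ => slp2_part3
  | k + 4, h => absurd h (Nat.not_lt.2 (Nat.le_add_left 4 k))

end CfsgLib.Schur.Sporadic.FiTwentyTwo
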