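import Cfsg.Agent.Lib.Schur.FiTwentyTwo.Data5
import Cfsg.Agent.Lib.Schur.FiTwentyTwo.Chunks

/-!
Kernel checks for the 5-part of the multiplier of the group Fi22.
-/

set_option autoImplicit false
set_option maxRecDepth 100000
set_option maxHeartbeats 0
set_option Elab.async false

namespace CfsgLib.Schur.Sporadic.FiTwentyTwo

open CfsgLib.Sporadic.OutCert

theorem rels5_part0 : ((cert5.rules.drop (0 * 40)).take 40).all
    (fun R => Tails.prodK 12 3510 kk5 R.1 == Tails.prodK 12 3510 kk5 R.2) = true := by decide +kernel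

theorem rels5_ok : Tails.relK 12 3510 kk5 cert5 = true :=
  relK_of_parts 40 1 (by decide +kernel) fun k hk => match k, hk with
  | 0, _ => rels5_part0
  | k + 1, h => absurd h (Nat.not_lt.2 (Nat.le_add_left 1 k))

end CfsgLib.Schur.Sporadic.FiTwentyTwo
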