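import Cfsg.Agent.Lib.Sporadic.Fi23Presented
import Cfsg.Agent.Lib.Sporadic.FiPresented
import Cfsg.Agent.Lib.Schur.Basic

/-!
A double cover of Fi22 inside Fi23.
-/

set_option autoImplicit false

namespace CfsgLib.Schur.Sporadic.FiTwentyTwo

open CfsgLib.Sporadic.CosetCert

universe u v

/-- A non-split double cover of a perfect group is a stem extension. -/
theorem stem_of_nonsplit {H : Type u} {K : Type v} [Group H] [Group K] (h : Cfsg.IsNonsplitDoubleCover H K)
    (hK : commutator K = ⊤) :
    ∃ σ : H →* K, Cfsg.IsStemExtension σ ∧ Nat.card σ.ker = 2 := by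
  obtain ⟨hc, ⟨e⟩, hns⟩ := h
  refine ⟨e.toMonoidHom.comp (QuotientGroup.mk' _), ⟨e.surjective.comp (QuotientGroup.mk'_surjective _), ?_, ?_⟩, ?_⟩
  all_goals
    have hk : (e.toMonoidHom.comp (QuotientGroup.mk' (Subgroup.center H))).ker = Subgroup.center H := by
      ext z
      rw [MonoidHom.mem_ker, MonoidHom.comp_apply, MulEquiv.coe_toMonoidHom, EmbeddingLike.map_eq_one_iff,
        QuotientGroup.mk'_apply, QuotientGroup.eq_one_iff]
    rw [hk]
  · by_contra hle
    have hmap : (commutator H).map (e.toMonoidHom.comp (QuotientGroup.mk' (Subgroup.center H))) = ⊤ := by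
      rw [_root_.commutator_def, Subgroup.map_commutator, ← MonoidHom.range_eq_map,
        MonoidHom.range_eq_top_of_surjective (e.toMonoidHom.comp (QuotientGroup.mk' _))
          (e.surjective.comp (QuotientGroup.mk'_surjective _)), ← _root_.commutator_def, hK]
    have hdis : Subgroup.center H ⊓ commutator H = ⊥ := by
      haveI := Fact.mk Nat.prime_two
      haveI : Finite (Subgroup.center H) := Nat.finite_of_card_ne_zero (by rw [hc]; norm_num)
      haveI : Fact (Nat.card (Subgroup.center H)).Prime := ⟨by rw [hc]; exact Nat.prime_two⟩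
      rcases ((commutator H).subgroupOf (Subgroup.center H)).eq_bot_or_eq_top_of_prime_card with hb | ht
      · refine (Subgroup.eq_bot_iff_forall _).2 fun z hz => ?_
        have : (⟨z, hz.1⟩ : Subgroup.center H) ∈ (commutator H).subgroupOf (Subgroup.center H) := hz.2
        rw [hb, Subgroup.mem_bot] at this
        exact congrArg Subtype.val this
      · exact absurd (Subgroup.subgroupOf_eq_top.1 ht) hle
    refine hns (commutator H) (Subgroup.isComplement'_of_disjoint_and_mul_eq_univ (disjoint_iff.2 hdis) ?_)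
    refine Set.eq_univ_of_forall fun x => ?_
    obtain ⟨d, hd, hde⟩ : e.toMonoidHom.comp (QuotientGroup.mk' (Subgroup.center H)) x ∈
        (commutator H).map (e.toMonoidHom.comp (QuotientGroup.mk' (Subgroup.center H))) := hmap ▸ Subgroup.mem_top _
    have hz : x * d⁻¹ ∈ (e.toMonoidHom.comp (QuotientGroup.mk' (Subgroup.center H))).ker := by
      rw [MonoidHom.mem_ker, map_mul, map_inv, hde, mul_inv_cancel]
    exact ⟨x * d⁻¹, hk ▸ hz, d, hd, inv_mul_cancel_right x d⟩
  · exact hc

theorem commutator_Fi22 : commutator Cfsg.Spor.Fi22 = ⊤ := by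
  haveI := FiP.isSimple
  haveI := FiP.finite
  refine ((commutator Cfsg.Spor.Fi22).normal_of_characteristic.eq_bot_or_eq_top).resolve_left fun h => ?_
  have hcomm : ∀ a b : Cfsg.Spor.Fi22, a * b = b * a := fun a b => commutatorElement_eq_one_iff_mul_comm.1
    (Subgroup.mem_bot.1 (h ▸ Subgroup.commutator_mem_commutator (Subgroup.mem_top a) (Subgroup.mem_top b)))
  letI : CommGroup Cfsg.Spor.Fi22 := { (inferInstance : Group Cfsg.Spor.Fi22) with mul_comm := hcomm }
  have := IsSimpleGroup.prime_card (α := Cfsg.Spor.Fi22)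
  rw [FiP.card_eq.1] at this
  norm_num at this

theorem exists_double : ∃ (Γ : Type) (_ : Group Γ) (_ : Finite Γ) (σ : Γ →* Cfsg.Spor.Fi22),
    Cfsg.IsStemExtension σ ∧ Nat.card σ.ker = 2 := by
  haveI := Fi23P.finite
  obtain ⟨σ, hσ⟩ := stem_of_nonsplit Fi23P.nonsplit commutator_Fi22
  exact ⟨_, inferInstance, inferInstance, σ, hσ⟩

end CfsgLib.Schur.Sporadic.FiTwentyTwo
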