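import Cfsg.Agent.Lib.Schur.FiTwentyTwo.MatCheck
import Cfsg.Agent.Lib.Schur.Basic

/-!
A triple cover of Fi22 by matrices of degree 27 over the field with four elements.
-/

set_option autoImplicit false
set_option maxRecDepth 100000

namespace CfsgLib.Schur.Sporadic.FiTwentyTwo

open Cfsg Cfsg.Spor CfsgLib.Schur.Tails.Mat
open CfsgLib.Sporadic.OutCert (lk pkF)

attribute [local irreducible] mapp mmul lk pkF matTab

/-- The permutations of the vectors. -/
abbrev V : Type := Equiv.Perm (Fin (2 ^ 54))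

theorem exists_perm {c d : ℕ} (h : mmul 54 c d = oneM 54) (h' : mmul 54 d c = oneM 54) :
    ∃ g : V, RepM 54 c g :=
  ⟨{ toFun := fun x => ⟨mapp 54 c x, mapp_lt _ _⟩
     invFun := fun x => ⟨mapp 54 d x, mapp_lt _ _⟩
     left_inv := fun x => Fin.ext (by show mapp 54 d (mapp 54 c x) = x; rw [← mapp_mmul, h', mapp_oneM x.2])
     right_inv := fun x => Fin.ext (by show mapp 54 c (mapp 54 d x) = x; rw [← mapp_mmul, h, mapp_oneM x.2]) }, fun _ => rfl⟩

theorem exists_el : ∀ i, ∃ g : V, RepM 54 (matTab.getD i (oneM 54)) g := by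
  intro i
  by_cases hi : i < 10
  · have hl : i < matTab.length := by rw [tab_len]; exact hi
    rw [List.getD_eq_getElem _ _ hl, ← List.getD_eq_getElem _ 0 hl]
    change ∃ g : V, RepM 54 (mK i) g
    rcases lt_or_eq_of_le (Nat.le_of_lt_succ hi) with h | rfl
    · exact exists_perm (inv_ok i h).1 (inv_ok i h).1
    · exact exists_perm cube_ok.1 cube_ok.2.1
  · exact ⟨1, by rw [List.getD_eq_default _ _ (by rw [tab_len]; omega)]; exact rep_oneM⟩

/-- An element. -/
noncomputable def el (i : ℕ) : V := (exists_el i).choose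

theorem rep_el' (i : ℕ) : RepM 54 (matTab.getD i (oneM 54)) (el i) := (exists_el i).choose_spec

theorem rep_el {i : ℕ} (hi : i < 10) : RepM 54 (mK i) (el i) := by
  have h := rep_el' i
  have hl : i < matTab.length := by rw [tab_len]; exact hi
  rwa [List.getD_eq_getElem _ _ hl, ← List.getD_eq_getElem _ 0 hl] at h

theorem ne_of_rep {q r : V} {c d : ℕ} (h1 : RepM 54 c q) (h2 : RepM 54 d r)
    (h : mapp 54 c 1 ≠ mapp 54 d 1) : q ≠ r := by
  rintro rfl
  exact h ((h1 ⟨1, by norm_num⟩).trans (h2 ⟨1, by norm_num⟩).symm)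

theorem rep_word : ∀ l : List ℕ, RepM 54 (prodM 54 matTab l) (l.map el).prod
  | [] => by simpa [prodM] using (rep_oneM (n := 54))
  | i :: l => by
    show RepM 54 (mmul 54 (matTab.getD i (oneM 54)) (prodM 54 matTab l)) _
    rw [List.map_cons, List.prod_cons]
    exact rep_mmul (rep_el' i) (rep_word l)

/-- The scalar. -/
noncomputable def zt : V := el 9

theorem sq_el {i : ℕ} (hi : i < 9) : el i * el i = 1 :=
  (rep_mmul (rep_el (hi.trans (by norm_num))) (rep_el (hi.trans (by norm_num)))).inj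
    (by rw [(inv_ok i hi).1]; exact rep_oneM)

theorem commute_el {i : ℕ} (hi : i < 9) : el i * zt = zt * el i :=
  (rep_mmul (rep_el (hi.trans (by norm_num))) (rep_el (by norm_num))).inj
    (by rw [(inv_ok i hi).2]; exact rep_mmul (rep_el (by norm_num)) (rep_el (hi.trans (by norm_num))))

theorem zt_cube : zt ^ 3 = 1 := by
  rw [pow_succ', pow_two]
  exact (rep_mmul (rep_el (by norm_num)) (rep_mmul (rep_el (by norm_num)) (rep_el (by norm_num)))).inj
    (by rw [cube_ok.1]; exact rep_oneM)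

theorem zt_ne : zt ≠ 1 :=
  ne_of_rep (rep_el (by norm_num)) rep_oneM (by rw [mapp_oneM (by norm_num)]; exact cube_ok.2.2.1)

theorem order_zt : orderOf zt = 3 := by
  haveI := Fact.mk Nat.prime_three
  exact orderOf_eq_prime zt_cube zt_ne

theorem mem_zpowers_of_code {q : V} {c : ℕ} (hq : RepM 54 c q)
    (h : c ∈ [oneM 54, mK 9, mmul 54 (mK 9) (mK 9)]) : q ∈ Subgroup.zpowers zt := by
  simp only [List.mem_cons, List.not_mem_nil, or_false] at h
  rcases h with rfl | rfl | rfl
  · rw [hq.inj rep_oneM]; exact one_mem _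
  · rw [hq.inj (rep_el (by norm_num))]; exact Subgroup.mem_zpowers _
  · rw [hq.inj (rep_mmul (rep_el (by norm_num)) (rep_el (by norm_num)))]
    exact mul_mem (Subgroup.mem_zpowers _) (Subgroup.mem_zpowers _)

/-- The cover. -/
noncomputable def GG : Subgroup V := Subgroup.closure (el '' Set.Iio 9)

theorem el_mem {i : ℕ} (h : i < 9) : el i ∈ GG := Subgroup.subset_closure ⟨i, h, rfl⟩

theorem pos_lt (s : Fi22.Gen) : pos s < 9 := by cases s <;> decide

theorem zt_mem : zt ∈ GG := by
  have hw : (spiderW.map el).prod ∈ GG :=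
    Subgroup.list_prod_mem _ fun x hx => by
      obtain ⟨i, hi, rfl⟩ := List.mem_map.1 hx
      have : ∀ j ∈ spiderW, j < 9 := by decide
      exact el_mem (this i hi)
  have h := rep_word spiderW
  rw [spider_ok] at h
  by_cases hs : spider = 1
  · rw [if_pos hs] at h
    rwa [h.inj (rep_el (by norm_num))] at hw
  · rw [if_neg hs] at h
    rw [h.inj (rep_mmul (rep_el (by norm_num)) (rep_el (by norm_num)))] at hw
    have e : zt = (zt * zt) * (zt * zt) := by
      calc zt = zt * zt ^ 3 := by rw [zt_cube, mul_one]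
        _ = (zt * zt) * (zt * zt) := by simp only [pow_succ, pow_zero, one_mul, mul_assoc]
    rw [e]
    exact mul_mem hw hw

theorem zt_central {k : V} (hk : k ∈ GG) : k * zt = zt * k := by
  have hle : GG ≤ Subgroup.centralizer {zt} := (Subgroup.closure_le _).2 fun y hy => by
    rw [SetLike.mem_coe, Subgroup.mem_centralizer_singleton_iff]
    obtain ⟨i, hi, rfl⟩ := hy
    exact commute_el hi
  exact Subgroup.mem_centralizer_singleton_iff.1 (hle hk)

/-- The central subgroup of order three. -/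
noncomputable def ZZ : Subgroup GG := (Subgroup.zpowers zt).subgroupOf GG

theorem ZZ_central : ZZ ≤ Subgroup.center GG := fun z hz => Subgroup.mem_center_iff.2 fun k => by
  obtain ⟨j, hj⟩ := Subgroup.mem_zpowers_iff.1 (Subgroup.mem_subgroupOf.1 hz)
  exact Subtype.ext (by
    rw [Subgroup.coe_mul, Subgroup.coe_mul, ← hj]
    exact ((show Commute (k : V) zt from zt_central k.2).zpow_right j).eq)

instance ZZ_normal : ZZ.Normal := ⟨fun z hz g => by
  rwa [Subgroup.mem_center_iff.1 (ZZ_central hz) g, mul_inv_cancel_right]⟩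

/-- The image of a generator. -/
noncomputable def genImg (s : Fi22.Gen) : GG ⧸ ZZ := QuotientGroup.mk ⟨el (pos s), el_mem (pos_lt s)⟩

theorem lift_letters (r : FreeGroup Fi22.Gen) : ∃ k : GG, FreeGroup.lift genImg r = (QuotientGroup.mk k : GG ⧸ ZZ) ∧
    (k : V) = ((r.toWord.map fun e => pos e.1).map el).prod := by
  have hinv : ∀ s, (genImg s)⁻¹ = genImg s := fun s => by
    rw [inv_eq_iff_mul_eq_one, genImg, ← QuotientGroup.mk_mul, QuotientGroup.eq_one_iff]
    exact Subgroup.mem_subgroupOf.2 (by rw [Subgroup.coe_mul, sq_el (pos_lt s)]; exact one_mem _)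
  conv in FreeGroup.lift genImg r => rw [← FreeGroup.mk_toWord (x := r), FreeGroup.lift_mk]
  induction r.toWord with
  | nil => exact ⟨1, by simp, by simp⟩
  | cons e l ih =>
    obtain ⟨k, hk, hk'⟩ := ih
    refine ⟨⟨el (pos e.1), el_mem (pos_lt e.1)⟩ * k, ?_, by simp [hk']⟩
    rw [List.map_cons, List.prod_cons, hk, QuotientGroup.mk_mul]
    congr 1
    obtain ⟨s, b⟩ := e
    cases b
    · exact hinv s
    · rfl

theorem rels_one : ∀ r ∈ coxRelators Fi22.edges ∪ {r | r ∈ Fi22.extra}, FreeGroup.lift genImg r = 1 := by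
  intro r hr
  have hg : ∀ x : Fi22.Gen, x ∈ CfsgLib.Sporadic.CosetCert.FiP.gens := fun x => by cases x <;> decide
  have hw : (r.toWord.map fun e => pos e.1) ∈ relW := by
    rcases hr with ⟨x, -, y, -, rfl⟩ | hr
    · exact List.mem_append_left _ (List.mem_flatMap.2 ⟨x, hg x, List.mem_map.2 ⟨y, hg y, rfl⟩⟩)
    · exact List.mem_append_right _ (List.mem_map.2 ⟨r, hr, rfl⟩)
  obtain ⟨k, hk, hk'⟩ := lift_letters r
  rw [hk, QuotientGroup.eq_one_iff]
  exact Subgroup.mem_subgroupOf.2 (mem_zpowers_of_code (hk' ▸ rep_word _) (rel_ok _ hw))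

/-- The map of the presented group. -/
noncomputable def toQ : Fi22 →* GG ⧸ ZZ := PresentedGroup.toGroup rels_one

theorem toQ_injective : Function.Injective toQ := by
  haveI := CfsgLib.Sporadic.CosetCert.FiP.isSimple
  rw [← MonoidHom.ker_eq_bot_iff]
  refine (toQ.normal_ker).eq_bot_or_eq_top.resolve_right fun h => ?_
  have h1 : genImg .a = 1 := by
    have : PresentedGroup.of Fi22.Gen.a ∈ toQ.ker := h ▸ Subgroup.mem_top _
    rwa [MonoidHom.mem_ker, toQ, PresentedGroup.toGroup.of] at this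
  rw [genImg, QuotientGroup.eq_one_iff, ZZ, Subgroup.mem_subgroupOf] at h1
  obtain ⟨j, hj⟩ := Subgroup.mem_zpowers_iff.1 h1
  change zt ^ j = el 0 at hj
  have hj3 : zt ^ j = zt ^ (j % 3) := by
    conv_lhs => rw [← zpow_mod_orderOf, order_zt]
    norm_num
  rw [hj3] at hj
  rcases (by omega : j % 3 = 0 ∨ j % 3 = 1 ∨ j % 3 = 2) with e | e | e <;> rw [e] at hj
  · rw [zpow_zero] at hj
    exact ne_of_rep (rep_el (by norm_num)) rep_oneM (by rw [mapp_oneM (by norm_num)]; exact cube_ok.2.2.2.1) hj.symm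
  · rw [zpow_one] at hj
    exact ne_of_rep (rep_el (by norm_num)) (rep_el (by norm_num)) cube_ok.2.2.2.2.1 hj.symm
  · rw [show (2 : ℤ) = 1 + 1 from rfl, zpow_add, zpow_one] at hj
    exact ne_of_rep (rep_el (by norm_num)) (rep_mmul (rep_el (by norm_num)) (rep_el (by norm_num)))
      cube_ok.2.2.2.2.2 hj.symm

theorem toQ_surjective : Function.Surjective toQ := by
  rw [← MonoidHom.range_eq_top, eq_top_iff]
  rintro q -
  induction q using QuotientGroup.induction_on with
  | _ k =>
  obtain ⟨k, hk⟩ := k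
  induction hk using Subgroup.closure_induction with
  | mem y hy =>
    obtain ⟨i, hi, rfl⟩ := hy
    have hs : ∃ s, pos s = i := by
      have : i < 9 := hi
      interval_cases i
      exacts [⟨.a, rfl⟩, ⟨.b, rfl⟩, ⟨.c, rfl⟩, ⟨.d, rfl⟩, ⟨.e, rfl⟩, ⟨.f, rfl⟩, ⟨.g, rfl⟩, ⟨.h, rfl⟩, ⟨.i, rfl⟩]
    obtain ⟨s, rfl⟩ := hs
    exact ⟨_, PresentedGroup.toGroup.of rels_one (x := s)⟩
  | one => exact one_mem _
  | mul x y _ _ hx hy => exact mul_mem hx hy
  | inv x _ hx => exact inv_mem hx

/-- The projection of the cover. -/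
noncomputable def sig : GG →* Fi22 :=
  (MulEquiv.ofBijective toQ ⟨toQ_injective, toQ_surjective⟩).symm.toMonoidHom.comp (QuotientGroup.mk' ZZ)

theorem ker_sig : sig.ker = ZZ := by
  ext z
  rw [MonoidHom.mem_ker, sig, MonoidHom.comp_apply, MulEquiv.coe_toMonoidHom, EmbeddingLike.map_eq_one_iff,
    QuotientGroup.mk'_apply, QuotientGroup.eq_one_iff]

theorem sig_surjective : Function.Surjective sig :=
  (MulEquiv.ofBijective toQ ⟨toQ_injective, toQ_surjective⟩).symm.surjective.comp (QuotientGroup.mk'_surjective ZZ)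

theorem card_ker : Nat.card sig.ker = 3 := by
  rw [ker_sig, ZZ, Nat.card_congr (Subgroup.subgroupOfEquivOfLe (Subgroup.zpowers_le.2 zt_mem)).toEquiv,
    Nat.card_zpowers, order_zt]

theorem ker_le_commutator : sig.ker ≤ commutator GG := by
  have hsq : ∀ a : Abelianization GG, a ^ 2 = 1 := by
    intro a
    induction a using QuotientGroup.induction_on with
    | _ k =>
    obtain ⟨k, hk⟩ := k
    show (Abelianization.of (⟨k, hk⟩ : GG)) ^ 2 = 1
    induction hk using Subgroup.closure_induction with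
    | mem y hy =>
      obtain ⟨i, hi, rfl⟩ := hy
      rw [← map_pow]
      refine (congrArg Abelianization.of ?_).trans (map_one _)
      refine Subtype.ext ?_
      show el i ^ 2 = 1
      rw [pow_two, sq_el hi]
    | one => exact (congrArg (· ^ 2) (map_one Abelianization.of)).trans (one_pow 2)
    | mul x y hx hy ihx ihy =>
      rw [show (⟨x * y, _⟩ : GG) = ⟨x, hx⟩ * ⟨y, hy⟩ from rfl, map_mul, mul_pow, ihx, ihy, one_mul]
    | inv x hx ih =>
      rw [show (⟨x⁻¹, _⟩ : GG) = ⟨x, hx⟩⁻¹ from rfl, map_inv, inv_pow, ih, inv_one]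
  intro z hz
  rw [ker_sig] at hz
  rw [← Abelianization.ker_of, MonoidHom.mem_ker]
  have h3 : z ^ 3 = 1 := by
    obtain ⟨j, hj⟩ := Subgroup.mem_zpowers_iff.1 (Subgroup.mem_subgroupOf.1 hz)
    refine Subtype.ext ?_
    rw [SubgroupClass.coe_pow, ← hj, ← zpow_natCast, ← zpow_mul, mul_comm, zpow_mul, zpow_natCast, zt_cube,
      one_zpow]
    rfl
  calc Abelianization.of z = (Abelianization.of z) ^ 3 * ((Abelianization.of z) ^ 2)⁻¹ := by
        rw [pow_succ' _ 2, mul_inv_cancel_right]
    _ = 1 := by rw [← map_pow, h3, map_one, hsq, inv_one, one_mul]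

theorem isStem : IsStemExtension sig := ⟨sig_surjective, ker_sig.trans_le ZZ_central, ker_le_commutator⟩

theorem isCyclic_ker : IsCyclic sig.ker := isCyclic_of_prime_card (hp := ⟨Nat.prime_three⟩) card_ker

end CfsgLib.Schur.Sporadic.FiTwentyTwo
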