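import Cfsg.Agent.Lib.Schur.FiTwentyTwo.Bound
import Cfsg.Agent.Lib.Schur.FiTwentyTwo.Triple
import Cfsg.Agent.Lib.Schur.FiTwentyTwo.Double
import Cfsg.Agent.Lib.Schur.StemFiber

/-!
The multiplier of Fi22 has order six: the fibre product of a triple and a double cover meets the bound.
-/

set_option autoImplicit false

namespace CfsgLib.Schur.Sporadic.FiTwentyTwo

theorem hasMultiplier : Cfsg.HasCyclicSchurMultiplier Cfsg.Spor.Fi22 6 := by
  haveI := CfsgLib.Sporadic.CosetCert.FiP.finite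
  obtain ⟨D, _, _, τ, hτ, hτ2⟩ := exists_double
  haveI : IsCyclic τ.ker := isCyclic_of_prime_card (hp := ⟨Nat.prime_two⟩) hτ2
  haveI := isCyclic_ker
  have hc : Nat.Coprime (Nat.card sig.ker) (Nat.card τ.ker) := by rw [card_ker, hτ2]; norm_num
  haveI := StemFiber.isCyclic_ker hc
  have hcard : Nat.card (StemFiber.proj sig τ).ker = 6 := by
    rw [Nat.card_congr StemFiber.kerEquiv.toEquiv, Nat.card_prod, card_ker, hτ2]
  refine Basic.hasSchurMultiplier_of_le (StemFiber.proj sig τ) (StemFiber.isStem isStem hτ hc)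
    (mulEquivOfCyclicCardEq (by rw [hcard]; simp [Nat.card_eq_fintype_card])) fun Δ _ _ π hπ => ?_
  exact (card_ker_bound Δ π hπ).trans (le_of_eq (by simp [Nat.card_eq_fintype_card]))

end CfsgLib.Schur.Sporadic.FiTwentyTwo
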