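import Cfsg.Agent.Lib.Schur.FiTwentyTwo.MatData
import Cfsg.Agent.Lib.Sporadic.FiPresented
import Cfsg.Agent.Lib.Schur.Basic

/-!
Kernel checks on the matrices of degree 27 generating a triple cover of Fi22.
-/

set_option autoImplicit false
set_option maxRecDepth 100000

namespace CfsgLib.Schur.Sporadic.FiTwentyTwo

open Cfsg Cfsg.Spor CfsgLib.Schur.Tails.Mat
open CfsgLib.Sporadic.OutCert (lk pkF)

/-- A matrix of the table. -/
def mK (i : ℕ) : ℕ := matTab.getD i 0

/-- The position of a generator. -/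
abbrev pos : Fi22.Gen → ℕ := CfsgLib.Sporadic.CosetCert.FiP.code

/-- The relators as words. -/
def relW : List (List ℕ) :=
  (CfsgLib.Sporadic.CosetCert.FiP.gens.flatMap fun x => CfsgLib.Sporadic.CosetCert.FiP.gens.map fun y =>
    ((FreeGroup.of x * FreeGroup.of y) ^ coxLabel Fi22.edges x y).toWord.map fun e => pos e.1) ++
  Fi22.extra.map fun r => r.toWord.map fun e => pos e.1

theorem tab_len : matTab.length = 10 := by decide +kernel

theorem inv_ok : ∀ i < 9, mmul 54 (mK i) (mK i) = oneM 54 ∧ mmul 54 (mK i) (mK 9) = mmul 54 (mK 9) (mK i) := by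
  decide +kernel

theorem cube_ok : mmul 54 (mK 9) (mmul 54 (mK 9) (mK 9)) = oneM 54 ∧
    mmul 54 (mmul 54 (mK 9) (mK 9)) (mK 9) = oneM 54 ∧ mapp 54 (mK 9) 1 ≠ 1 ∧
    mapp 54 (mK 0) 1 ≠ 1 ∧ mapp 54 (mK 0) 1 ≠ mapp 54 (mK 9) 1 ∧
    mapp 54 (mK 0) 1 ≠ mapp 54 (mmul 54 (mK 9) (mK 9)) 1 := by decide +kernel

theorem rel_ok : ∀ w ∈ relW, prodM 54 matTab w ∈ [oneM 54, mK 9, mmul 54 (mK 9) (mK 9)] := by decide +kernel

/-- The word of the spider relator. -/
def spiderW : List ℕ := (List.replicate 10 [3, 2, 1, 3, 4, 5, 3, 7, 8]).flatten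

theorem spider_ok : prodM 54 matTab spiderW = (if spider = 1 then mK 9 else mmul 54 (mK 9) (mK 9)) := by
  decide +kernel

end CfsgLib.Schur.Sporadic.FiTwentyTwo
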